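import Cfsg.Agent.H727.Orth.St
import Cfsg.Agent.Characters.GaloisBasic
import Cfsg.Agent.H460.IFO.Base

/-!
# S5719, `|A|` odd: the index of a subgroup of odd order, real characters (helper460)

* `lt_index_real` : `χ` real irreducible of odd degree `d > 1`: a subgroup of odd order has index `> d`;
* `split_le_index` : `K` with a split BN-pair of characteristic `p`: a subgroup of odd order has index at least
  the order of a Sylow `p`-subgroup (all `p`);
* `split_lt` : the consequence for `IF`.
-/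

set_option autoImplicit false
set_option linter.unusedSectionVars false

namespace Cfsg.Agent.H460.IFO

open Cfsg Module
open scoped ComplexConjugate

universe u v

/-- twice the algebraic integers -/
def twoInt : AddSubgroup ℂ where
  carrier := {x | ∃ a : ℂ, IsIntegral ℤ a ∧ x = a + a}
  zero_mem' := ⟨0, isIntegral_zero, by simp⟩
  add_mem' := by
    rintro _ _ ⟨a, ha, rfl⟩ ⟨b, hb, rfl⟩
    exact ⟨a + b, ha.add hb, by ring⟩
  neg_mem' := by
    rintro _ ⟨a, ha, rfl⟩
    exact ⟨-a, ha.neg, by ring⟩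

theorem even_of_twoInt {z : ℤ} (h : (z : ℂ) ∈ twoInt) : Even z := by
  obtain ⟨a, ha, he⟩ := h
  have h1 : a = algebraMap ℚ ℂ ((z : ℚ) / 2) := by
    have : a = (z : ℂ) / 2 := by rw [he]; ring
    rw [this]
    simp
  have h2 : IsIntegral ℤ ((z : ℚ) / 2) := by
    rw [h1] at ha
    exact (isIntegral_algebraMap_iff (algebraMap ℚ ℂ).injective).1 ha
  obtain ⟨k, hk⟩ := IsIntegrallyClosed.isIntegral_iff.1 h2
  refine ⟨k, ?_⟩
  have h3 : (z : ℚ) = k + k := by
    have h4 : ((k : ℤ) : ℚ) = (z : ℚ) / 2 := hk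
    rw [h4]
    ring
  exact_mod_cast h3

/-- **Parity.** -/
theorem sum_sub_mem {X : Type*} [Group X] [Fintype X] (hX : Odd (Nat.card X)) (f : X → ℂ) (hi : ∀ x, IsIntegral ℤ (f x))
    (hz : ∀ x, f x⁻¹ = f x) : ∑ x, f x - f 1 ∈ twoInt := by
  classical
  have h1 : ∑ x, f x - f 1 = ∑ x ∈ Finset.univ.erase (1 : X), f x := by
    rw [← Finset.add_sum_erase _ _ (Finset.mem_univ (1 : X))]
    ring
  rw [h1, ← QuotientAddGroup.eq_zero_iff]
  rw [show ((∑ x ∈ Finset.univ.erase (1 : X), f x : ℂ) : ℂ ⧸ twoInt) =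
    ∑ x ∈ Finset.univ.erase (1 : X), ((f x : ℂ) : ℂ ⧸ twoInt) from map_sum (QuotientAddGroup.mk' twoInt) _ _]
  refine Finset.sum_involution (fun x _ => x⁻¹) ?_ ?_ ?_ ?_
  · intro x _
    rw [hz, ← QuotientAddGroup.mk_add, QuotientAddGroup.eq_zero_iff]
    exact ⟨f x, hi x, rfl⟩
  · intro x hx _ h
    have h2 : x ^ 2 = 1 := by
      rw [pow_two]
      nth_rewrite 1 [← h]
      exact inv_mul_cancel x
    have h3 : orderOf x ∣ 2 := orderOf_dvd_of_pow_eq_one h2
    have h4 : orderOf x ∣ Nat.card X := orderOf_dvd_natCard x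
    have h5 : orderOf x ∣ 1 := (Nat.coprime_two_left.2 hX) ▸ Nat.dvd_gcd h3 h4
    exact (Finset.mem_erase.1 hx).1 (orderOf_eq_one_iff.1 (Nat.dvd_one.1 h5))
  · intro x hx
    exact Finset.mem_erase.2 ⟨inv_ne_one.2 (Finset.mem_erase.1 hx).1, Finset.mem_univ _⟩
  · intro x _
    exact inv_inv x

variable {K : Type u} [Group K] [Finite K]

/-- **The index of a subgroup of odd order** (real character of odd degree). -/
theorem lt_index_real {χ : K → ℂ} (hχ : IsIrrCharacter K χ) (hr : ∀ g, conj (χ g) = χ g)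
    {d : ℕ} (hd : χ 1 = d) (hodd : Odd d) (h1 : 1 < d) {X : Subgroup K} (hX : Odd (Nat.card X)) : d < X.index := by
  classical
  have hint : ∀ g, IsIntegral ℤ (χ g) := fun g => Cfsg.Agent.Characters.GaloisBasic.isIntegral_apply (Cfsg.Agent.Characters.Core.isIrr_isCharacter hχ) g
  have hinv : ∀ g, χ g⁻¹ = χ g := fun g => by
    rw [Cfsg.Agent.Characters.Core.isCharacter_apply_inv (Cfsg.Agent.Characters.Core.isIrr_isCharacter hχ), hr]
  obtain ⟨n, ρ, hirr, rfl⟩ := hχ
  have hn : d = n := by
    rw [Representation.char_one, finrank_fin_fun] at hd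
    exact_mod_cast hd.symm
  subst hn
  have := Fintype.ofFinite K
  have := Fintype.ofFinite X
  -- a fixed vector
  obtain ⟨v, hv0, hv⟩ : ∃ v : Fin d → ℂ, v ≠ 0 ∧ ∀ x ∈ X, ρ x v = v := by
    let σ : Representation ℂ X (Fin d → ℂ) := ρ.comp X.subtype
    have hc0 : ((Nat.card X : ℕ) : ℂ) ≠ 0 := Nat.cast_ne_zero.2 Nat.card_pos.ne'
    have : Invertible ((Nat.card X : ℕ) : ℂ) := invertibleOfNonzero hc0
    have h2 := Representation.card_inv_mul_sum_char_eq_finrank σ
    have h7 : finrank ℂ (Representation.invariants σ) ≠ 0 := by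
      intro h0
      have h5 : ∑ x : X, σ.character x = 0 := by
        rw [h0, Nat.cast_zero, mul_eq_zero] at h2
        exact h2.resolve_left (inv_ne_zero hc0)
      have h6 := sum_sub_mem hX (fun x : X => ρ.character x) (fun x => hint x) (fun x => hinv x)
      have h8 : ∑ x : X, ρ.character x = 0 := h5
      rw [h8, zero_sub] at h6
      have h9 : ρ.character ((1 : X) : K) = d := hd
      rw [h9] at h6
      have h10 : Even (-(d : ℤ)) := even_of_twoInt (by push_cast; exact h6)
      rw [even_neg] at h10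
      exact (Nat.not_even_iff_odd.2 hodd) (by exact_mod_cast h10)
    have h8 : Nontrivial (Representation.invariants σ) := Module.nontrivial_of_finrank_pos (Nat.pos_of_ne_zero h7)
    obtain ⟨w, hw⟩ := exists_ne (0 : Representation.invariants σ)
    refine ⟨w, fun h => hw (Subtype.ext h), fun x hx => ?_⟩
    exact (Representation.mem_invariants σ w.1).1 w.2 ⟨x, hx⟩
  -- the orbit map
  let c : K ⧸ X → (Fin d → ℂ) := Quotient.lift (fun g : K => ρ g v) (by
    intro a b hab
    have h2 : a⁻¹ * b ∈ X := QuotientGroup.leftRel_apply.1 hab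
    have h3 := hv _ h2
    show ρ a v = ρ b v
    conv_lhs => rw [← h3]
    rw [← Module.End.mul_apply, ← map_mul, mul_inv_cancel_left])
  have hc : ∀ g : K, c (g : K ⧸ X) = ρ g v := fun g => rfl
  have hcm : ∀ (g : K) (q : K ⧸ X), ρ g (c q) = c (g • q) := by
    intro g q
    induction q using QuotientGroup.induction_on with
    | H a =>
      rw [hc, ← Module.End.mul_apply, ← map_mul]
      rfl
  have htop : ⊤ ≤ Submodule.span ℂ (Set.range c) := by
    let S : Subrepresentation ρ := ⟨Submodule.span ℂ (Set.range c), by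
      intro g w hw
      induction hw using Submodule.span_induction with
      | mem w hw =>
        obtain ⟨q, rfl⟩ := hw
        rw [hcm]
        exact Submodule.subset_span ⟨_, rfl⟩
      | zero => rw [map_zero]; exact Submodule.zero_mem _
      | add a b _ _ ha hb => rw [map_add]; exact Submodule.add_mem _ ha hb
      | smul r a _ ha => rw [map_smul]; exact Submodule.smul_mem _ _ ha⟩
    rcases hirr.eq_bot_or_eq_top S with h2 | h2
    · exfalso
      have h3 : S.toSubmodule = ⊥ := by rw [h2]; rfl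
      have h4 : v ∈ S.toSubmodule := Submodule.subset_span ⟨((1 : K) : K ⧸ X), by rw [hc, map_one]; rfl⟩
      rw [h3, Submodule.mem_bot] at h4
      exact hv0 h4
    · have h3 : S.toSubmodule = ⊤ := by rw [h2]; rfl
      exact h3.ge
  have hle : d ≤ X.index := by
    have h2 := finrank_range_le_card (R := ℂ) c
    rw [Set.finrank, top_le_iff.1 htop, finrank_top, finrank_fin_fun] at h2
    rwa [Subgroup.index, Nat.card_eq_fintype_card]
  refine lt_of_le_of_ne hle fun heq => ?_
  have hli : LinearIndependent ℂ c := by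
    refine linearIndependent_of_top_le_span_of_card_eq_finrank htop ?_
    rw [finrank_fin_fun, heq, Subgroup.index, Nat.card_eq_fintype_card]
  have hs0 : ∑ q, c q ≠ 0 := by
    intro h0
    have h2 := Fintype.linearIndependent_iff.1 hli (fun _ => 1) (by simpa using h0) ((1 : K) : K ⧸ X)
    exact one_ne_zero h2
  -- the sum is invariant
  have hsi : ∀ g, ρ g (∑ q, c q) = ∑ q, c q := by
    intro g
    rw [map_sum]
    simp_rw [hcm]
    exact Fintype.sum_equiv (MulAction.toPerm g) _ _ fun q => rfl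
  let S : Subrepresentation ρ := ⟨Submodule.span ℂ {∑ q, c q}, by
    intro g w hw
    obtain ⟨r, rfl⟩ := Submodule.mem_span_singleton.1 hw
    rw [map_smul, hsi]
    exact Submodule.smul_mem _ _ (Submodule.mem_span_singleton_self _)⟩
  rcases hirr.eq_bot_or_eq_top S with h2 | h2
  · have h3 : S.toSubmodule = ⊥ := by rw [h2]; rfl
    exact hs0 (Submodule.span_singleton_eq_bot.1 h3)
  · have h3 : S.toSubmodule = ⊤ := by rw [h2]; rfl
    have h4 : finrank ℂ (Submodule.span ℂ {∑ q, c q}) = 1 := finrank_span_singleton hs0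
    have h5 : Submodule.span ℂ {∑ q, c q} = ⊤ := h3
    rw [h5, finrank_top, finrank_fin_fun] at h4
    omega

/-- **Split BN-pairs of characteristic `p`, all `p`**: a subgroup of odd order has index at least `|K|_p`. -/
theorem split_le_index {p : ℕ} [hp : Fact p.Prime] (h : FixBN.HasSplit p K) {X : Subgroup K}
    (hX : Odd (Nat.card X)) : p ^ (Nat.card K).factorization p ≤ X.index := by
  classical
  obtain ⟨χ, h1, h2, h3⟩ := Cfsg.Agent.H727.Orth.real_of_hasSplit h
  let Q : Sylow p K := default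
  have h4 := h3 Q
  have hQ : Nat.card Q = p ^ (Nat.card K).factorization p := Q.card_eq_multiplicity
  rw [hQ] at h4
  rcases hp.out.eq_two_or_odd' with rfl | ho
  · exact two_pow_le_index hX (Nat.ordProj_dvd _ _)
  · rcases Nat.lt_or_ge 1 (p ^ (Nat.card K).factorization p) with h5 | h5
    · exact (lt_index_real h1 h2 h4 ho.pow h5 hX).le
    · exact h5.trans (Nat.pos_of_ne_zero X.index_ne_zero_of_finite)

open Cfsg.Agent.H209.Fxy in
/-- `K` with a split BN-pair of characteristic `p` fixed by the involution `σ ∈ Γ`, `|A|` odd: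
`(|K|_p) ^ 6 < |T : A|`. -/
theorem split_lt {T : Type v} [Group T] [Finite T] {A : Subgroup T} {Γ : Subgroup (MulAut T)} (h : IF A Γ)
    (hO : Odd (Nat.card A)) {σ : MulAut T} (hσ : σ ∈ Γ) (h2 : orderOf σ = 2) {p : ℕ} [hp : Fact p.Prime]
    (hK : FixBN.HasSplit p K) (j : K →* T) (hi : Function.Injective j) (hj : ∀ k, σ (j k) = j k) :
    (p ^ (Nat.card K).factorization p) ^ 6 < A.index :=
  (Nat.pow_le_pow_left (split_le_index hK (odd_comap hO hi)) 6).trans_lt (comap_lt h hσ h2 j hj)

end Cfsg.Agent.H460.IFO
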