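import Cfsg.Agent.H460.IFO.Base
import Cfsg.Agent.H999.IF.EngB

/-!
# S5719, `|A|` odd: the second inequality (helper460)

`false_of_fix` : `σ ∈ Γ` an involution, `j : K → C_T(σ)` injective, all subgroups of odd order of `K` have index at least `m`,
`|C_T(σ)| ≥ c` and `|T| ≤ m ^ 5 c`: contradiction.
-/

set_option autoImplicit false
set_option linter.unusedSectionVars false

namespace Cfsg.Agent.H460.IFO

open Subgroup Cfsg Cfsg.Agent.H209.Fxy Cfsg.Agent.H999.IFB

universe u v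

variable {T : Type u} [Group T] {A : Subgroup T} {Γ : Subgroup (MulAut T)} {K : Type v} [Group K]

theorem lt_card_T [Finite T] (h : IF A Γ) {σ : MulAut T} (hσ : σ ∈ Γ) (h2 : orderOf σ = 2) :
    fx A σ ^ 5 * Nat.card {x : T // σ x = x} < Nat.card T := by
  have h1 := (IF.E2 h hσ h2).1
  have h3 : Nat.card {x : T // σ x = x} ≤
      Nat.card {z : T // (MulAut.conj z)⁻¹ * σ * MulAut.conj z = σ} := by
    refine Nat.card_le_card_of_injective (fun x => (⟨x.1, ?_⟩ :
      {z : T // (MulAut.conj z)⁻¹ * σ * MulAut.conj z = σ})) (fun x y e => ?_)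
    · rw [mul_assoc, inv_mul_eq_iff_eq_mul]
      ext y
      simp only [MulAut.mul_apply, MulAut.conj_apply, map_mul, map_inv, x.2]
    · exact Subtype.ext (congrArg
        (Subtype.val : {z : T // (MulAut.conj z)⁻¹ * σ * MulAut.conj z = σ} → T) e)
  have h4 : 0 < Nat.card {x : T // σ x = x} := by
    have : Nonempty {x : T // σ x = x} := ⟨⟨1, map_one σ⟩⟩
    exact Nat.card_pos
  rw [card_T (T := T) σ]
  calc fx A σ ^ 5 * Nat.card {x : T // σ x = x} < (icl σ).ncard * Nat.card {x : T // σ x = x} :=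
        Nat.mul_lt_mul_of_pos_right h1 h4
    _ ≤ _ := Nat.mul_le_mul_left _ h3

theorem index_le_fx [Finite T] (h : IF A Γ) {σ : MulAut T} (hσ : σ ∈ Γ) (h2 : orderOf σ = 2) (j : K →* T)
    (hj : ∀ k, σ (j k) = j k) : (A.comap j).index ≤ fx A σ := by
  rw [Subgroup.index_comap]
  refine (IF.E1 h hσ h2 ?_).1
  rintro _ ⟨k, rfl⟩
  exact hj k

/-- **The second inequality.** -/
theorem false_of_fix [Finite T] (h : IF A Γ) (hO : Odd (Nat.card A)) {σ : MulAut T} (hσ : σ ∈ Γ) (h2 : orderOf σ = 2)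
    {j : K →* T} (hi : Function.Injective j) (hj : ∀ k, σ (j k) = j k) {m c : ℕ}
    (hK : ∀ X : Subgroup K, Odd (Nat.card X) → m ≤ X.index) (hC : c ≤ Nat.card {x : T // σ x = x})
    (hT : Nat.card T ≤ m ^ 5 * c) : False := by
  have h1 := (hK _ (odd_comap hO hi)).trans (index_le_fx h hσ h2 j hj)
  have h3 := lt_card_T h hσ h2
  have h4 : m ^ 5 * c ≤ fx A σ ^ 5 * Nat.card {x : T // σ x = x} :=
    Nat.mul_le_mul (Nat.pow_le_pow_left h1 5) hC
  omega

end Cfsg.Agent.H460.IFO
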