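import Cfsg.Agent.H460.IFO.SixLevi
import Cfsg.Agent.H460.IFO.FixCard
import Cfsg.Agent.H460.IFO.StReal
import Cfsg.Agent.H977.IFO.E6Card
import Cfsg.Agent.S1063

/-!
# S5719, `|A|` odd, `E₆(q)`, `q` odd: graph involutions in normal form (helper460)

* `exists_K` : the subgroup `K = Sp₆(F)` of `E₆(F)`, centralised by `d' * gr`; every subgroup of odd order of `K` has index
  `> |F| ^ 9`; `K` is generated by its `p`-elements;
* `kill_std` : no involution of `Γ` is conjugate to `d' * gr`.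
-/

set_option autoImplicit false
set_option linter.unusedSectionVars false

namespace Cfsg.Agent.H460.IFO.Six

open Subgroup Cfsg CoxeterSystem Cfsg.Lie Cfsg.Lie.ChevalleyDatum
open Cfsg.Agent.ChevalleyStructure Cfsg.Agent.ChevalleyStructure.Elts Cfsg.Agent.ChevalleyStructure.CoxeterGeom
  Cfsg.Agent.ChevalleyStructure.GraphSymm Cfsg.Agent.ChevalleyStructure.TwistedU
open Cfsg.Agent.Tits.Roots Cfsg.Agent.Tits.Core Cfsg.Agent.Nodes.BNOf Cfsg.Agent.Nodes.RGDLib Cfsg.Agent.Nodes.Sub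
open Cfsg.Agent.Nodes.RGDTwE6 (isCartan hp)
open Cfsg.Agent.ChevalleyStructure.TwE6Basic (sg fix mem_fix twisted_le_fix hE6)
open Cfsg.Agent.H79.OutChev Cfsg.Agent.H79.SimpleGen Cfsg.Agent.H79.CharDiag
open Cfsg.Agent.H70.ChevDiag (chi isMul_chi chi_simple dG)
open Cfsg.Agent.BpExc.FamTw.Gr (gr coe_gr)
open Cfsg.Agent.H209.Fxy

universe u

variable {F : Type u} [Field F]

section Fin

variable [Fintype F]

/-- **Index of the subgroups of odd order.** -/
theorem lt_index_KK {p : ℕ} [Fact p.Prime] [CharP F p] (hp2 : p ≠ 2) {X : Subgroup ↥(KK F)}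
    (hX : Odd (Nat.card X)) : Nat.card F ^ 9 < X.index := by
  have := finite3
  have R := rgd3 (F := F) p
  obtain ⟨χ, h1, h2, h3⟩ := exists_st R
  have hF : 1 < Nat.card F := Finite.one_lt_card
  obtain ⟨m, hm⟩ := (IsPGroup.iff_card (p := p)).1 R.isPGroup_Upos
  have h4 := card_U3 (F := F)
  have hodd : Odd (Nat.card ↥(RGD.Sup (X3 F) (RGD.Pos cs3 (levi_isCartan f3 isCartan)))) := by
    rw [hm]
    exact ((Fact.out : p.Prime).odd_of_ne_two hp2).pow
  have h5 : 1 < Nat.card ↥(RGD.Sup (X3 F) (RGD.Pos cs3 (levi_isCartan f3 isCartan))) :=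
    lt_of_lt_of_le (Nat.one_lt_pow (by norm_num) hF) h4
  exact h4.trans_lt (lt_index_real h1 h2 h3 hodd h5 hX)

theorem gen_KK (p : ℕ) [Fact p.Prime] [CharP F p] : closure {k : ↥(KK F) | ∃ m, k ^ p ^ m = 1} = ⊤ := by
  have := finite3
  exact gen_p (rgd3 (F := F) p)

/-- the embedding of `Sp₆(F)` in `E₆(F)` -/
noncomputable def jj (F : Type u) [Field F] [Fintype F] : ↥(KK F) →* ↥(chevE6.group F) :=
  Subgroup.inclusion KK_le_group

theorem jj_injective : Function.Injective (jj F) := Subgroup.inclusion_injective _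

theorem coe_jj (k : ↥(KK F)) : ((jj F k : ↥(chevE6.group F)) : GL chevE6.Idx F) = k := rfl

theorem gr_jj (k : ↥(KK F)) : gr (L := F) hE6 symmE6 (jj F k) = jj F k := by
  apply Subtype.ext
  rw [coe_gr, coe_jj]
  have h1 : (k : GL chevE6.Idx F) ∈ fix (RingHom.id F) := twisted_le_fix _ hid hqq (KK_le k.2)
  have h2 : sg (RingHom.id F) (k : GL chevE6.Idx F) =
      symmE6.P F * (k : GL chevE6.Idx F) * (symmE6.P F)⁻¹ := by
    apply Units.ext
    rfl
  rw [← h2]
  exact h1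

theorem isD_jj {c : Fin 6 → Fˣ} (hc : ∀ i : Fin 6, (i : ℕ) ≠ 1 → c i = 1) {d : MulAut ↥(chevE6.group F)}
    (hd : IsD hE6 c d) (k : ↥(KK F)) : d (jj F k) = jj F k := by
  have h0 := isMul_chi hE6 rootCoeff_mE c
  have h1 : IsD hE6 (fun i : Fin chevE6.rank => chi 6 mE c (chevE6.simple i))
      (Cfsg.Agent.H79.CharDiag.diagAut hE6 h0.isRootCharacter) :=
    Cfsg.Agent.H79.DiagAuts.isD_diagAut hE6 h0.isRootCharacter
  have h2 : (fun i : Fin chevE6.rank => chi 6 mE c (chevE6.simple i)) = c :=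
    funext fun i => chi_simple hE6 rootCoeff_mE c i
  rw [h2] at h1
  rw [hd.unique h1]
  apply Subtype.ext
  rw [Cfsg.Agent.H79.CharDiag.coe_diagAut, coe_jj]
  have h3 := mem_centralizer_singleton_iff.1 (KK_le_cent hc k.2)
  have h4 : hatG chevE6 (chi 6 mE c) = dG chevE6 (chi 6 mE c) := Units.ext rfl
  show hatG chevE6 (chi 6 mE c) * (k : GL chevE6.Idx F) * (hatG chevE6 (chi 6 mE c))⁻¹ = k
  rw [h4, ← h3, mul_inv_cancel_right]

/-- **(K)** -/
theorem exists_K {p : ℕ} [Fact p.Prime] [CharP F p] (hp2 : p ≠ 2) {c : Fin 6 → Fˣ}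
    (hc : ∀ i : Fin 6, (i : ℕ) ≠ 1 → c i = 1) {d : MulAut ↥(chevE6.group F)} (hd : IsD hE6 c d) :
    ∃ K : Subgroup ↥(chevE6.group F), (∀ k ∈ K, (d * gr (L := F) hE6 symmE6 : MulAut ↥(chevE6.group F)) k = k) ∧
      (∀ X : Subgroup ↥K, Odd (Nat.card X) → Nat.card F ^ 9 < X.index) ∧
      closure {k : ↥K | ∃ m, k ^ p ^ m = 1} = ⊤ := by
  let e : ↥(KK F) ≃* ↥((jj F).range) := MonoidHom.ofInjective jj_injective
  refine ⟨(jj F).range, ?_, fun X hX => ?_, ?_⟩
  · rintro _ ⟨k, rfl⟩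
    rw [MulAut.mul_apply, gr_jj, isD_jj hc hd]
  · have h1 : (X.comap e.toMonoidHom).index = X.index := index_comap_of_surjective X e.surjective
    rw [← h1]
    refine lt_index_KK hp2 ?_
    have h2 : Nat.card ↥(X.comap e.toMonoidHom) = Nat.card X := by
      have h3 : (X.comap e.toMonoidHom).map e.toMonoidHom = X := map_comap_eq_self_of_surjective e.surjective X
      calc Nat.card ↥(X.comap e.toMonoidHom) = Nat.card ↥((X.comap e.toMonoidHom).map e.toMonoidHom) :=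
            Nat.card_congr ((X.comap e.toMonoidHom).equivMapOfInjective _ e.injective).toEquiv
        _ = Nat.card X := by rw [h3]
    rw [h2]
    exact hX
  · have h1 := congrArg (Subgroup.map e.toMonoidHom) (gen_KK (F := F) p)
    have h0 : Subgroup.map e.toMonoidHom ⊤ = ⊤ := Subgroup.map_top_of_surjective e.toMonoidHom e.surjective
    rw [h0, MonoidHom.map_closure] at h1
    rw [← h1]
    apply le_antisymm
    · refine closure_mono ?_
      intro k hk
      obtain ⟨m, hm⟩ := hk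
      refine ⟨e.symm k, ⟨m, ?_⟩, e.apply_symm_apply k⟩
      rw [← map_pow, hm, map_one]
    · refine closure_mono ?_
      rintro _ ⟨k, ⟨m, hm⟩, rfl⟩
      refine ⟨m, ?_⟩
      show (e k) ^ p ^ m = 1
      rw [← map_pow, hm, map_one]

theorem card_le6 : Nat.card ↥(chevE6.group F) ≤ Nat.card F ^ 78 := by
  have hq : 0 < Fintype.card F := Fintype.card_pos
  have hs : ∀ d, Fintype.card F ^ d - 1 ≤ Fintype.card F ^ d := fun d => Nat.sub_le _ _
  rw [Nat.card_eq_fintype_card (α := F)]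
  have h1 := Cfsg.Agent.S1063.result (F := F) rfl
  have h3 : Nat.card ↥(chevE6.group F) ≤ Nat.gcd 3 (Fintype.card F - 1) * Nat.card ↥(chevE6.group F) :=
    Nat.le_mul_of_pos_left _ (Nat.gcd_pos_of_pos_left _ (by norm_num))
  refine h3.trans ?_
  rw [h1]
  calc _ ≤ Fintype.card F ^ 36 * Fintype.card F ^ 2 * Fintype.card F ^ 5 * Fintype.card F ^ 6 * Fintype.card F ^ 8 *
        Fintype.card F ^ 9 * Fintype.card F ^ 12 := by gcongr <;> exact hs _
    _ = Fintype.card F ^ 78 := by ring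

/-- **Graph involutions in normal form.** -/
theorem kill_std (hF : ringChar F ≠ 2) {A : Subgroup ↥(chevE6.group F)} {Γ : Subgroup (MulAut ↥(chevE6.group F))}
    (h : IF A Γ) (hO : Odd (Nat.card A)) {σ : MulAut ↥(chevE6.group F)} (hσ : σ ∈ Γ) (h2 : orderOf σ = 2)
    {ζ d' : MulAut ↥(chevE6.group F)} {ε : Fˣ} (hε : ε * ε = 1)
    (hd : IsD hE6 (fun i : Fin 6 => if i = 1 then ε else 1) d')
    (e : σ = ζ⁻¹ * (d' * gr (L := F) hE6 symmE6) * ζ) : False := by
  obtain ⟨p, hp1⟩ := CharP.exists F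
  have : Fact p.Prime := ⟨CharP.char_is_prime F p⟩
  have hp2 : p ≠ 2 := by rwa [ringChar.eq F p] at *
  have h20 : (2 : F) ≠ 0 := Ring.two_ne_zero hF
  have hc : ∀ i : Fin 6, (i : ℕ) ≠ 1 → (fun i : Fin 6 => if i = 1 then ε else 1) i = 1 := by
    intro i hi
    exact if_neg fun h => hi (by rw [h]; rfl)
  let j : ↥(KK F) →* ↥(chevE6.group F) := (ζ⁻¹ : MulAut ↥(chevE6.group F)).toMonoidHom.comp (jj F)
  have hj : ∀ k, σ (j k) = j k := by
    intro k
    show σ (ζ⁻¹ (jj F k)) = ζ⁻¹ (jj F k)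
    rw [e, MulAut.mul_apply, MulAut.mul_apply, MulAut.apply_inv_self, MulAut.mul_apply, gr_jj, isD_jj hc hd]
  have hi : Function.Injective j := (ζ⁻¹ : MulAut ↥(chevE6.group F)).injective.comp jj_injective
  have hC : Nat.card F ^ 33 ≤ Nat.card {x : ↥(chevE6.group F) // σ x = x} := by
    refine (Cfsg.Agent.H977.IFO.E6Card.card_std hε h20 hd).trans (Nat.card_congr ?_).le
    refine (Equiv.subtypeEquiv (ζ⁻¹ : MulAut ↥(chevE6.group F)).toEquiv fun x => ?_)
    show _ ↔ σ (ζ⁻¹ x) = ζ⁻¹ x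
    rw [e, MulAut.mul_apply, MulAut.mul_apply, MulAut.apply_inv_self]
    exact (ζ⁻¹ : MulAut ↥(chevE6.group F)).injective.eq_iff.symm
  refine false_of_fix h hO hσ h2 hi hj (m := Nat.card F ^ 9) (fun X hX => (lt_index_KK hp2 hX).le) hC ?_
  calc Nat.card ↥(chevE6.group F) ≤ Nat.card F ^ 78 := card_le6
    _ = (Nat.card F ^ 9) ^ 5 * Nat.card F ^ 33 := by rw [← pow_mul, ← pow_add]

end Fin

end Cfsg.Agent.H460.IFO.Six
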