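import Cfsg.Agent.H460.IFO.StGG
import Cfsg.Agent.Nodes.RGDTwE6
import Cfsg.Agent.ChevalleyStructure.TwE6Card
import Cfsg.Agent.H79.DiagAuts
import Cfsg.Agent.BpExc.FamTwSix

/-!
# The `C₃` Levi subgroup of `F₄(F) = ²E₆(F, 1)` (helper460, S5719)

`K = G1` of the nodes `{p₄}`, `{p₃, p₅}`, `{p₁, p₆}` of `twistedE6 F 1`, the group `Sp₆(F)` in `E₆(F)`, centralised by the graph
automorphism and by the diagonal automorphisms which are trivial on `p₁, p₃, p₄, p₅, p₆`.
-/

set_option autoImplicit false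
set_option linter.unusedSectionVars false

namespace Cfsg.Agent.H460.IFO.Six

open Subgroup Cfsg CoxeterSystem Cfsg.Lie Cfsg.Lie.ChevalleyDatum
open Cfsg.Agent.ChevalleyStructure Cfsg.Agent.ChevalleyStructure.Elts Cfsg.Agent.ChevalleyStructure.CoxeterGeom
  Cfsg.Agent.ChevalleyStructure.GraphSymm Cfsg.Agent.ChevalleyStructure.TwistedU
open Cfsg.Agent.Tits.Roots Cfsg.Agent.Tits.Core Cfsg.Agent.Nodes.BNOf Cfsg.Agent.Nodes.RGDTwGen
  Cfsg.Agent.Nodes.RGDChev Cfsg.Agent.Nodes.RGDFold Cfsg.Agent.Nodes.RGDLib Cfsg.Agent.Nodes.Sub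
open Cfsg.Agent.Nodes.RGDTwE6 (J A isCartan hp X T nn foldData foldGrp)
open Cfsg.Agent.ChevalleyStructure.TwE6Basic (sg fix mem_fix twisted_le_fix hE6)
open Cfsg.Agent.H79.OutChev Cfsg.Agent.H79.SimpleGen
open Cfsg.Agent.H70.ChevDiag Cfsg.Agent.H70.RootCoeffTab
open Cfsg.Agent.Nodes.Comb Cfsg.Agent.Nodes.Reps Cfsg.Agent.Nodes.SubComb
open scoped ComplexConjugate

universe u

/-! ### the diagonal automorphisms -/

/-- the root coefficients -/
def mE (r i : ℕ) : ℤ := (dig ME6 6 r i : ℤ) - 8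

theorem rootCoeff_mE : RootCoeff chevE6 mE :=
  rootCoeff_of_chk (M := ME6) (by decide +kernel) (by decide +kernel) (by decide +kernel)

theorem root0 : ∀ k < 72, V chevE6 J k 0 = 0 → mE k 1 = 0 := by decide +kernel

variable {F : Type u} [Field F]

theorem chi_one {c : Fin 6 → Fˣ} (hc : ∀ i : Fin 6, (i : ℕ) ≠ 1 → c i = 1) {r : ℕ} (hr : mE r 1 = 0) :
    chi 6 mE c r = 1 := by
  unfold chi
  refine Finset.prod_eq_one fun i _ => ?_
  by_cases hi : (i : ℕ) = 1
  · rw [hi, hr, zpow_zero]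
  · rw [hc i hi, one_zpow]



/-- the root groups with trivial first coordinate commute with the diagonal element -/
theorem R_le {c : Fin 6 → Fˣ} (hc : ∀ i : Fin 6, (i : ℕ) ≠ 1 → c i = 1) {σ : GL chevE6.Idx F →* GL chevE6.Idx F}
    {z : Fin 4 → ℤ} (hz : z 0 = 0) :
    R chevE6 hp F J σ z ≤ centralizer {dG chevE6 (chi 6 mE c)} := by
  refine inf_le_left.trans (rspan_le _ ?_)
  rintro r ⟨hr, hV⟩ t
  have h1 : chi 6 mE c r = 1 := chi_one hc (root0 r hr (by rw [hV, hz]))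
  rw [mem_centralizer_singleton_iff]
  have h2 := dG_conj hE6 (isMul_chi hE6 rootCoeff_mE c) r t
  rw [show (chi chevE6.rank mE c r : Fˣ) = 1 from h1, Units.val_one, one_mul, mul_inv_eq_iff_eq_mul] at h2
  exact h2.symm

/-! ### the group -/

theorem hid (x : F) : (RingHom.id F) x = x ^ 1 := (pow_one x).symm

theorem hqq (t : F) : (t ^ 1) ^ 1 = t := by rw [pow_one, pow_one]

/-- the nodes -/
def f3 : Fin 3 ↪ Fin 4 := ⟨Fin.succ, Fin.succ_injective 3⟩

/-- the Coxeter system of the Levi subgroup -/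
abbrev cs3 : CoxeterSystem (leviMatrix f3 CoxeterMatrix.F₄) (leviMatrix f3 CoxeterMatrix.F₄).Group :=
  (leviMatrix f3 CoxeterMatrix.F₄).toCoxeterSystem

theorem finite4 : Finite CoxeterMatrix.F₄.Group :=
  finite_W (hp := hp) CoxeterMatrix.F₄.toCoxeterSystem isCartan foldData

theorem finite3 : Finite (leviMatrix f3 CoxeterMatrix.F₄).Group := by
  have := finite4
  exact (levi_subSys (cs := CoxeterMatrix.F₄.toCoxeterSystem) (h := isCartan) f3).finite cs3
    (levi_isCartan f3 isCartan)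

variable (F)

/-- the root groups of `F₄(F)` -/
noncomputable abbrev X4 (z : Fin 4 → ℤ) : Subgroup (GL chevE6.Idx F) := R chevE6 hp F J (sg (RingHom.id F)) z

/-- the root groups of the Levi subgroup -/
noncomputable abbrev X3 (z : Fin 3 → ℤ) : Subgroup (GL chevE6.Idx F) := X4 F (iota (fun j => sr (f3 j)) z)

/-- **The group `Sp₆(F)`.** -/
noncomputable def KK : Subgroup (GL chevE6.Idx F) := G1 cs3 (levi_isCartan f3 isCartan) (X3 F)

variable {F}

section Fin

variable [Fintype F] (p : ℕ) [Fact p.Prime] [CharP F p]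

theorem rgd4 : RGD CoxeterMatrix.F₄.toCoxeterSystem isCartan p (chevE6.diagonalSubgroup F ⊓ twistedE6 F 1)
    (fun i => nI hp F (J i)) (X4 F) :=
  rgd_GL _ isCartan foldData (foldGrp hid hqq) p

theorem rgd3 : RGD cs3 (levi_isCartan f3 isCartan) p (chevE6.diagonalSubgroup F ⊓ twistedE6 F 1)
    (fun i => nI hp F (J (f3 i))) (X3 F) := by
  have := finite4
  exact rgd_levi (rgd4 p) f3 cs3

theorem root_iota {z : Fin 3 → ℤ} (hz : IsRoot cs3 (levi_isCartan f3 isCartan) z) :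
    IsRoot CoxeterMatrix.F₄.toCoxeterSystem isCartan (iota (fun j => sr (f3 j)) z) := by
  have := finite4
  exact (levi_subSys (cs := CoxeterMatrix.F₄.toCoxeterSystem) (h := isCartan) f3).isRoot_iota hz

theorem KK_le : KK F ≤ twistedE6 F 1 := by
  obtain ⟨p, hp1⟩ := CharP.exists F
  have : Fact p.Prime := ⟨CharP.char_is_prime F p⟩
  refine RGD.Sup_le fun z hz => ?_
  exact Cfsg.Agent.Nodes.RGDFold.R_le _ isCartan foldData (foldGrp hid hqq) p (root_iota hz)

theorem KK_le_group : KK F ≤ chevE6.group F := KK_le.trans (Cfsg.Agent.BpExc.FamTw.Six.twisted_le_group 1)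

theorem KK_le_cent {c : Fin 6 → Fˣ} (hc : ∀ i : Fin 6, (i : ℕ) ≠ 1 → c i = 1) :
    KK F ≤ centralizer {dG chevE6 (chi 6 mE c)} := by
  refine RGD.Sup_le fun z hz => Six.R_le hc ?_
  exact iota_levi_apply_ne f3 z fun j => Fin.succ_ne_zero j

/-! ### orders -/

theorem card_sr (i : Fin 4) : Nat.card F ≤ Nat.card ↥(X4 F (sr i)) := by
  have hX : X4 F (sr i) = Cfsg.Agent.ChevalleyStructure.TwE6BN.rs F
      (Cfsg.Agent.ChevalleyStructure.TwE6Basic.posE i) ⊓ fix (RingHom.id F) :=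
    Cfsg.Agent.Nodes.RGDTwE6.R_pos (RingHom.id F) i
  rcases Cfsg.Agent.ChevalleyStructure.TwE6BN.classes.{u} i with ⟨j, C⟩ | ⟨j, j', C⟩
  · refine Nat.card_le_card_of_injective (fun t : F => (⟨Cfsg.Agent.ChevalleyStructure.TwE6Basic.x j t, ?_⟩ :
      ↥(X4 F (sr i)))) ?_
    · rw [hX]
      exact ⟨Cfsg.Agent.ChevalleyStructure.TwE6BN.x_mem_rs (by rw [C.pos]; simp) _,
        twisted_le_fix _ hid hqq (C.pos_mem_G (pow_one t))⟩
    · intro s t h
      exact Cfsg.Agent.ChevalleyStructure.TwE6Basic.x_injective C.lt (congrArg Subtype.val h)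
  · refine Nat.card_le_card_of_injective (fun t : F => (⟨Cfsg.Agent.ChevalleyStructure.TwE6Basic.x j t *
      Cfsg.Agent.ChevalleyStructure.TwE6Basic.x j' (t ^ 1), ?_⟩ : ↥(X4 F (sr i)))) ?_
    · rw [hX]
      exact ⟨mul_mem (Cfsg.Agent.ChevalleyStructure.TwE6BN.x_mem_rs (by rw [C.pos]; simp) _)
        (Cfsg.Agent.ChevalleyStructure.TwE6BN.x_mem_rs (by rw [C.pos]; simp) _),
        twisted_le_fix _ hid hqq (C.pos_mem_G t)⟩
    · intro s t h
      exact (C.x_pair_inj (congrArg Subtype.val h)).1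

theorem card_X3 {z : Fin 3 → ℤ} (hz : IsRoot cs3 (levi_isCartan f3 isCartan) z) :
    Nat.card F ≤ Nat.card ↥(X3 F z) := by
  obtain ⟨p, hp1⟩ := CharP.exists F
  have : Fact p.Prime := ⟨CharP.char_is_prime F p⟩
  have := finite4
  obtain ⟨w, i, e⟩ := root_iota hz
  show _ ≤ Nat.card ↥(X4 F (iota (fun j => sr (f3 j)) z))
  rw [e, Cfsg.Agent.Nodes.CardSup.card_X_rep (rgd4 p) w (isRoot_sr _ _ i)]
  exact card_sr i

/-- the positive roots -/
def L9 : List (Fin 3 → ℤ) := [![1, 0, 0], ![0, 1, 0], ![0, 0, 1], ![1, 1, 0], ![1, 2, 0], ![0, 1, 1], ![1, 1, 1],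
  ![1, 2, 1], ![1, 2, 2]]

theorem act3 {v : Fin 3 → ℤ} (hv : IsRoot cs3 (levi_isCartan f3 isCartan) v) (i : Fin 3) :
    IsRoot cs3 (levi_isCartan f3 isCartan) (v - pairing (fun j k => A (f3 j) (f3 k)) i v • sr i) := by
  have h1 := hv.act (cs3.simple i)
  rwa [rep_simple_eq] at h1

theorem isRoot9 : ∀ z ∈ L9, IsRoot cs3 (levi_isCartan f3 isCartan) z := by
  have r0 : IsRoot cs3 (levi_isCartan f3 isCartan) ![1, 0, 0] := by
    have := isRoot_sr cs3 (levi_isCartan f3 isCartan) 0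
    rwa [show (sr 0 : Fin 3 → ℤ) = ![1, 0, 0] by decide] at this
  have r1 : IsRoot cs3 (levi_isCartan f3 isCartan) ![0, 1, 0] := by
    have := isRoot_sr cs3 (levi_isCartan f3 isCartan) 1
    rwa [show (sr 1 : Fin 3 → ℤ) = ![0, 1, 0] by decide] at this
  have r2 : IsRoot cs3 (levi_isCartan f3 isCartan) ![0, 0, 1] := by
    have := isRoot_sr cs3 (levi_isCartan f3 isCartan) 2
    rwa [show (sr 2 : Fin 3 → ℤ) = ![0, 0, 1] by decide] at this
  have key : ∀ (v w : Fin 3 → ℤ) (i : Fin 3), IsRoot cs3 (levi_isCartan f3 isCartan) v →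
      v - pairing (fun j k => A (f3 j) (f3 k)) i v • sr i = w → IsRoot cs3 (levi_isCartan f3 isCartan) w := by
    rintro v w i hv rfl
    exact act3 hv i
  have r3 := key _ ![1, 1, 0] 0 r1 (by decide +kernel)
  have r4 := key _ ![1, 2, 0] 1 r0 (by decide +kernel)
  have r5 := key _ ![0, 1, 1] 1 r2 (by decide +kernel)
  have r6 := key _ ![1, 1, 1] 0 r5 (by decide +kernel)
  have r7 := key _ ![1, 2, 1] 1 r6 (by decide +kernel)
  have r8 := key _ ![1, 2, 2] 2 r4 (by decide +kernel)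
  intro z hz
  simp only [L9, List.mem_cons, List.not_mem_nil, or_false] at hz
  rcases hz with rfl | rfl | rfl | rfl | rfl | rfl | rfl | rfl | rfl <;> assumption

theorem pos9 : ∀ z ∈ L9, ∀ i, 0 ≤ z i := by decide +kernel

theorem nodup9 : L9.Nodup := by decide +kernel

/-- **The order of the unipotent group.** -/
theorem card_U3 : Nat.card F ^ 9 ≤ Nat.card ↥(RGD.Sup (X3 F) (RGD.Pos cs3 (levi_isCartan f3 isCartan))) := by
  classical
  obtain ⟨p, hp1⟩ := CharP.exists F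
  have : Fact p.Prime := ⟨CharP.char_is_prime F p⟩
  have := finite3
  have hfin : (RGD.Pos cs3 (levi_isCartan f3 isCartan)).Finite :=
    (RGD.finite_roots (cs := cs3) (h := levi_isCartan f3 isCartan)).subset fun _ hx => hx.1
  have h1 := Cfsg.Agent.Nodes.CardSup.card_sup (rgd3 (F := F) p) (s := hfin.toFinset) (by
    rw [Set.Finite.coe_toFinset]) (by
    rw [Set.Finite.coe_toFinset]
    exact Cfsg.Agent.Nodes.Unique.closed_pos)
  rw [Set.Finite.coe_toFinset] at h1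
  rw [h1]
  have h2 : L9.toFinset ⊆ hfin.toFinset := by
    intro z hz
    rw [List.mem_toFinset] at hz
    rw [Set.Finite.mem_toFinset]
    exact ⟨isRoot9 z hz, pos9 z hz⟩
  have h3 : L9.toFinset.card = 9 := by
    rw [List.toFinset_card_of_nodup nodup9]
    rfl
  have h4 : 9 ≤ hfin.toFinset.card := h3 ▸ Finset.card_le_card h2
  calc Nat.card F ^ 9 ≤ Nat.card F ^ hfin.toFinset.card := Nat.pow_le_pow_right Nat.card_pos h4
    _ = ∏ _z ∈ hfin.toFinset, Nat.card F := (Finset.prod_const _).symm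
    _ ≤ _ := Finset.prod_le_prod' fun z hz => card_X3 ((Set.Finite.mem_toFinset hfin).1 hz).1

end Fin

end Cfsg.Agent.H460.IFO.Six
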