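import Cfsg.Agent.H167.AltRGD
import Cfsg.Agent.H958.TS.RgdSub

/-!
# The Steinberg character of the group generated by the root groups (helper460, S5719)

`exists_st` : the group `G1 cs h X` generated by the root groups of a root group datum has a real irreducible character of
degree `|U|`; `gen_p` : it is generated by elements of `p`-power order.
-/

set_option autoImplicit false
set_option linter.unusedSectionVars false

namespace Cfsg.Agent.H460.IFO

open Subgroup Cfsg CoxeterSystem Cfsg.Agent.ChevalleyStructure.CoxeterGeom Cfsg.Agent.Tits.Roots Cfsg.Agent.Tits.Core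
  Cfsg.Agent.Tits.Exchange Cfsg.Agent.Nodes.Reps Cfsg.Agent.Nodes.BNOf Cfsg.Agent.Nodes.Bruhat
  Cfsg.Agent.Nodes.RGDLib Cfsg.Agent.H958.TS.RgdSub
open scoped ComplexConjugate

variable {I W Y : Type*} [Fintype I] [DecidableEq I] [Group W] [Group Y] {M : CoxeterMatrix I}
  {cs : CoxeterSystem M W} {A : I → I → ℤ} {h : IsCartan M A} {p : ℕ} {T : Subgroup Y} {n : I → Y}
  {X : (I → ℤ) → Subgroup Y}

/-- **The Steinberg character.** -/
theorem exists_st [Finite W] [Finite Y] (R : RGD cs h p T n X) :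
    ∃ χ : ↥(G1 cs h X) → ℂ, IsIrrCharacter ↥(G1 cs h X) χ ∧ (∀ g, conj (χ g) = χ g) ∧
      χ 1 = (Nat.card ↥(RGD.Sup X (RGD.Pos cs h)) : ℕ) := by
  classical
  obtain ⟨m, R1⟩ := exists_inner R
  obtain ⟨h1, h2⟩ := Cfsg.Agent.H167.AltRGD.exists_char_alt R1 (top_le_iff.1 (G1_inner.ge.trans (rgd_G1_le R1)))
  refine ⟨_, h1, fun g => ?_, ?_⟩
  · rw [map_sum]
    refine Finset.sum_congr rfl fun K _ => ?_
    rw [map_mul, map_pow, map_neg, map_one]
    congr 1
    unfold fixedPointCharacter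
    exact map_natCast _ _
  · rw [h2 1 (one_mem _)]
    congr 1
    have h3 : RGD.Sup (fun x => (X x).subgroupOf (G1 cs h X)) (RGD.Pos cs h) =
        (RGD.Sup X (RGD.Pos cs h)).subgroupOf (G1 cs h X) := by
      unfold RGD.Sup
      rw [iSup_subgroupOf]
      rintro ⟨x, hx⟩
      exact X_le_G1 hx.1
    have h4 : RGD.Sup X (RGD.Pos cs h) ≤ G1 cs h X := RGD.Sup_le fun x hx => X_le_G1 hx.1
    have h5 : Nat.card ↥(RGD.Sup X (RGD.Pos cs h)) =
        Nat.card ↥(RGD.Sup (fun x => (X x).subgroupOf (G1 cs h X)) (RGD.Pos cs h)) := by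
      rw [h3]
      exact Nat.card_congr (subgroupOfEquivOfLe h4).symm.toEquiv
    rw [h5]
    refine Nat.card_congr (Equiv.subtypeUnivEquiv fun v => ?_)
    rw [mul_one, inv_mul_cancel]
    exact one_mem _

/-- every root group is a `p`-group -/
theorem isPGroup_X [Finite W] (R : RGD cs h p T n X) {x : I → ℤ} (hx : IsRoot cs h x) : IsPGroup p ↥(X x) := by
  obtain ⟨w, i, rfl⟩ := hx
  obtain ⟨g, hg⟩ := exists_rp cs R.nsys w
  rw [← R.conj_rp hg (isRoot_sr cs h i)]
  exact (R.pgrp i).map _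

/-- the group is generated by its elements of `p`-power order -/
theorem gen_p [Finite W] (R : RGD cs h p T n X) :
    closure {k : ↥(G1 cs h X) | ∃ m, k ^ p ^ m = 1} = ⊤ := by
  rw [eq_top_iff]
  have h1 : G1 cs h X ≤ (closure {k : ↥(G1 cs h X) | ∃ m, k ^ p ^ m = 1}).map (G1 cs h X).subtype := by
    refine RGD.Sup_le fun x hx y hy => ?_
    obtain ⟨m, hm⟩ := isPGroup_X R hx ⟨y, hy⟩
    refine ⟨⟨y, X_le_G1 hx hy⟩, subset_closure ⟨m, ?_⟩, rfl⟩
    have h2 : y ^ p ^ m = 1 := by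
      have h3 := congrArg (Subtype.val : ↥(X x) → Y) hm
      rwa [SubgroupClass.coe_pow] at h3
    apply Subtype.ext
    rw [SubgroupClass.coe_pow]
    exact h2
  intro y _
  obtain ⟨z, hz, e⟩ := h1 y.2
  have : z = y := Subtype.ext e
  rwa [← this]

end Cfsg.Agent.H460.IFO
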